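import Cfsg.Agent.RankOneInvolution.Main
import Cfsg.Agent.UniqueMaximal.Basic
import Cfsg.Agent.AbelSolvCent.PSLElem
import Cfsg.Agent.Linear.SL2Sylow
import Cfsg.Agent.Linear.Basic
import Cfsg.Agent.DicksonPSL2.InvolutionGraph

/-!
# A normal `PSL₂(q)` under a semiregular inertial group of prime order

The Sylow 2-subgroup lies in the normal subgroup, is elementary, and has order one more than the
inertial group.
-/

set_option autoImplicit false
set_option linter.style.haveILetI false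
set_option linter.unusedSectionVars false

namespace CfsgLib.PrimeInertia

open Cfsg CfsgLib.BlocksFrobenius CfsgLib.RankOneInvolution

universe u

/-- Sylow 2-subgroups and involutions of `PSL₂(q)`, `q ≡ 3, 5 (mod 8)` or `q = 2ⁿ ≥ 4`. -/
theorem psl_sylow_data {L : Type u} [Group L] [Finite L] {F : Type} [Field F] [Fintype F]
    (hq : ((Fintype.card F % 8 = 3 ∨ Fintype.card F % 8 = 5) ∧ 5 ≤ Fintype.card F) ∨
      ∃ n : ℕ, 2 ≤ n ∧ Fintype.card F = 2 ^ n)
    (e : L ≃* Matrix.ProjectiveSpecialLinearGroup (Fin 2) F) (U : Sylow 2 L) :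
    4 ≤ Nat.card (U : Subgroup L) ∧
      (IsMulCommutative (U : Subgroup L) → ∀ w ∈ (U : Subgroup L), w * w = 1) ∧
      ∀ x y : L, orderOf x = 2 → orderOf y = 2 → IsConj x y := by
  haveI : Fact (Nat.Prime 2) := ⟨Nat.prime_two⟩
  have hconj : ∀ x y : L, orderOf x = 2 → orderOf y = 2 → IsConj x y := by
    intro x y hx hy
    have h := DicksonPSL2.InvolutionGraph.isConj_of_orderOf_two
      (x := e x) (y := e y) (by rw [e.orderOf_eq, hx]) (by rw [e.orderOf_eq, hy])
    simpa using e.symm.toMonoidHom.map_isConj h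
  rcases hq with ⟨hq, -⟩ | ⟨n, hn, hcard⟩
  · have hk := CfsgLib.Linear.isKleinFour_sylow_PSL_two hq
      (U.mapSurjective (f := e.toMonoidHom) e.surjective)
    refine ⟨?_, fun _ w hw => ?_, hconj⟩
    · have h := hk.card_four
      have h' := Subgroup.card_map_of_injective (K := (U : Subgroup L)) (f := e.toMonoidHom)
        e.injective
      exact (h.symm.trans h').le
    · haveI := hk
      have h := congrArg Subtype.val (IsKleinFour.mul_self
        (⟨e w, ⟨w, hw, rfl⟩⟩ : ↥((U.mapSurjective (f := e.toMonoidHom) e.surjective :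
          Sylow 2 (Matrix.ProjectiveSpecialLinearGroup (Fin 2) F)) :
          Subgroup (Matrix.ProjectiveSpecialLinearGroup (Fin 2) F))))
      refine e.injective ?_
      rw [map_mul, map_one]
      exact h
  · haveI : CharP F 2 := charP_of_card_eq_prime_pow (f := n) hcard
    have h4 : 2 ^ 2 ∣ Nat.card L := by
      rw [Nat.card_congr e.toEquiv, CfsgLib.Linear.card_PSL_two_even
        (by rw [hcard]; exact (Nat.even_pow.2 ⟨even_two, by omega⟩)), hcard]
      exact Dvd.dvd.mul_right (pow_dvd_pow 2 hn) _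
    have h4U : 2 ^ 2 ∣ Nat.card (U : Subgroup L) := U.pow_dvd_card_of_pow_dvd_card h4
    refine ⟨Nat.le_of_dvd Nat.card_pos h4U, fun hab w hw => ?_, hconj⟩
    obtain ⟨⟨t, ht⟩, hto⟩ := exists_prime_orderOf_dvd_card' (G := (U : Subgroup L)) 2
      (dvd_trans (by norm_num) h4U)
    rw [Subgroup.orderOf_mk] at hto
    refine e.injective ?_
    rw [map_mul, map_one]
    refine AbelSolvCent.psl2_centralizer_invol_sq (u := e t) ?_ ?_ ?_
    · have htt : t * t = 1 := by
        rw [← sq]; exact orderOf_dvd_iff_pow_eq_one.1 hto.dvd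
      rw [← map_mul, htt, map_one]
    · intro h
      rw [← e.orderOf_eq, h, orderOf_one] at hto
      omega
    · have hwt : w * t = t * w :=
        congrArg Subtype.val (hab.is_comm.comm (⟨w, hw⟩ : (U : Subgroup L)) ⟨t, ht⟩)
      rw [← map_mul, ← map_mul, hwt]

variable {G : Type u} [Group G] [Fintype G] [Fact (Nat.Prime 2)]

/-- The Sylow 2-subgroup lies in the normal subgroup. -/
theorem semireg_full {P : Sylow 2 G} (h : Semireg P)
    (L : Subgroup G) [L.Normal] (U : Sylow 2 L)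
    (hU : (U : Subgroup L).map L.subtype = (P : Subgroup G) ⊓ L)
    (h4 : 4 ≤ Nat.card (U : Subgroup L)) (hsq : ∀ w ∈ (U : Subgroup L), w * w = 1)
    (hconj : ∀ x y : L, orderOf x = 2 → orderOf y = 2 → IsConj x y) :
    Nat.card (aut P) + 1 = Nat.card (P : Subgroup G) ∧ ∀ w ∈ (P : Subgroup G), w * w = 1 := by
  classical
  have hab := h.comm
  have hmemU : ∀ l : L, l ∈ (U : Subgroup L) ↔ (l : G) ∈ (P : Subgroup G) := by
    intro l
    constructor
    · intro hl
      exact (hU.le ⟨l, hl, rfl⟩).1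
    · intro hl
      obtain ⟨l', hl', e⟩ := hU.ge ⟨hl, l.2⟩
      exact (Subtype.ext e : l' = l) ▸ hl'
  have hUab : IsMulCommutative (U : Subgroup L) := ⟨⟨fun a b => Subtype.ext (Subtype.ext
    (mul_comm_mem hab ((hmemU a).1 a.2) ((hmemU b).1 b.2)))⟩⟩
  haveI := Fintype.ofFinite L
  -- an element moved inside `U`
  obtain ⟨u, hu1, u', hu1', hne⟩ : ∃ u : (U : Subgroup L), u ≠ 1 ∧
      ∃ u' : (U : Subgroup L), u' ≠ 1 ∧ u' ≠ u := by
    haveI : Nontrivial (U : Subgroup L) := Finite.one_lt_card_iff_nontrivial.1 (by omega)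
    obtain ⟨u, hu⟩ := exists_ne (1 : (U : Subgroup L))
    by_contra hc
    push Not at hc
    haveI := Fintype.ofFinite (U : Subgroup L)
    have hsub : (Finset.univ : Finset (U : Subgroup L)) ⊆ {1, u} := fun w _ => by
      by_cases hw : w = 1
      · simp [hw]
      · simp [hc u hu w hw]
    have h2 := Finset.card_le_card hsub
    rw [Finset.card_univ, ← Nat.card_eq_fintype_card] at h2
    have : ({1, u} : Finset (U : Subgroup L)).card ≤ 2 := Finset.card_le_two
    omega
  have hord : ∀ w : (U : Subgroup L), w ≠ 1 → orderOf (w : L) = 2 := fun w hw =>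
    orderOf_eq_prime (by rw [sq]; exact hsq _ w.2) fun e => hw (Subtype.ext e)
  set y : (P : Subgroup G) := ⟨((u : L) : G), (hmemU u).1 u.2⟩ with hy
  have hy1 : y ≠ 1 := fun e =>
    hu1 (Subtype.ext (Subtype.ext (congrArg Subtype.val e : ((u : L) : G) = 1)))
  -- the inertial group is regular on the nonidentity elements of `U`
  have hAU : Nat.card (aut P) + 1 = Nat.card (U : Subgroup L) := by
    haveI := Fintype.ofFinite (U : Subgroup L)
    have hmapsto : ∀ f : aut P, ∃ w : (U : Subgroup L), w ≠ 1 ∧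
        ((w : L) : G) = ((f.1 y : (P : Subgroup G)) : G) := by
      rintro ⟨f, ⟨n, hn⟩, rfl⟩
      have hL : n * ((u : L) : G) * n⁻¹ ∈ L := (inferInstance : L.Normal).conj_mem _ (u : L).2 n
      have hP : n * ((u : L) : G) * n⁻¹ ∈ (P : Subgroup G) :=
        (Subgroup.mem_normalizer_iff.1 hn _).1 y.2
      refine ⟨⟨⟨_, hL⟩, (hmemU _).2 hP⟩, fun e => hu1 (Subtype.ext (Subtype.ext ?_)), rfl⟩
      have e' : n * ((u : L) : G) * n⁻¹ = 1 :=
        congrArg (fun w : (U : Subgroup L) => ((w : L) : G)) e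
      exact conj_eq_one_iff.1 e'
    choose φ hφ1 hφ using hmapsto
    let φ' : aut P → {w : (U : Subgroup L) // w ≠ 1} := fun f => ⟨φ f, hφ1 f⟩
    have hbij : Function.Bijective φ' := by
      refine ⟨fun f g e => ?_, fun w => ?_⟩
      · have e1 : f.1 y = g.1 y := Subtype.ext (by
          rw [← hφ f, ← hφ g, show φ f = φ g from congrArg Subtype.val e])
        by_contra hfg
        exact hy1 (h.eq_one_of_fixed (mul_mem (inv_mem g.2) f.2)
          (fun e2 => hfg (Subtype.ext (inv_mul_eq_one.1 e2).symm))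
          (by rw [MulAut.mul_apply, e1, ← MulAut.mul_apply, inv_mul_cancel, MulAut.one_apply]))
      · have hc := L.subtype.map_isConj (hconj (u : L) (w.1 : L) (hord u hu1) (hord w.1 w.2))
        obtain ⟨f, hf, e⟩ := exists_aut_of_isConj hab
          (y := y) (y' := ⟨((w.1 : L) : G), (hmemU _).1 w.1.2⟩) hc
        refine ⟨⟨f, hf⟩, Subtype.ext (Subtype.ext (Subtype.ext ?_))⟩
        show ((φ ⟨f, hf⟩ : L) : G) = _
        rw [hφ]
        exact congrArg Subtype.val e
    rw [Nat.card_congr (Equiv.ofBijective φ' hbij),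
      Nat.card_eq_fintype_card (α := {w : (U : Subgroup L) // w ≠ 1}), Fintype.card_subtype_compl,
      Fintype.card_subtype_eq, ← Nat.card_eq_fintype_card]
    omega
  -- an element of `L` normalizing `U` and moving `u`
  obtain ⟨l, hlc⟩ := isConj_iff.1 (hconj (u : L) (u' : L) (hord u hu1) (hord u' hu1'))
  obtain ⟨n, hn, hne'⟩ := CfsgLib.Transfer.controlsFusion_normalizer_of_isMulCommutative U hUab
    (u : L) u.2 l (hlc ▸ u'.2)
  rw [hlc] at hne'
  -- both `P` and its image centralize `U`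
  set UG := (P : Subgroup G) ⊓ L with hUG
  set C := Subgroup.centralizer (UG : Set G) with hC
  have hPC : (P : Subgroup G) ≤ C := fun w hw =>
    Subgroup.mem_centralizer_iff.2 fun z hz => mul_comm_mem hab hz.1 hw
  have hnU : ∀ z ∈ UG, (n : G)⁻¹ * z * n ∈ UG := by
    intro z hz
    have h2 := (Subgroup.mem_normalizer_iff.1 (inv_mem hn) ⟨z, hz.2⟩).1 ((hmemU ⟨z, hz.2⟩).2 hz.1)
    have h3 := (hmemU _).1 h2
    have h4 : (n : G)⁻¹ * z * n ∈ (P : Subgroup G) := by simpa using h3
    exact ⟨h4, by simpa using (inferInstance : L.Normal).conj_mem z hz.2 (n : G)⁻¹⟩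
  have hnPC : (((n : G) • P : Sylow 2 G) : Subgroup G) ≤ C := by
    rw [Sylow.coe_subgroup_smul]
    rintro _ ⟨w, hw, rfl⟩
    refine Subgroup.mem_centralizer_iff.2 fun z hz => ?_
    show z * ((n : G) * w * (n : G)⁻¹) = (n : G) * w * (n : G)⁻¹ * z
    have := mul_comm_mem hab hw (hnU z hz).1
    calc z * ((n : G) * w * (n : G)⁻¹) = (n : G) * (((n : G)⁻¹ * z * n) * w) * (n : G)⁻¹ := by group
      _ = (n : G) * (w * ((n : G)⁻¹ * z * n)) * (n : G)⁻¹ := by rw [this]
      _ = _ := by group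
  obtain ⟨c, hc⟩ := MulAction.exists_smul_eq C (((n : G) • P).subtype hnPC) (P.subtype hPC)
  rw [Sylow.smul_subtype] at hc
  have hc2 : (c : G) • (n : G) • P = P := Sylow.subtype_injective hc
  rw [← mul_smul] at hc2
  set m := (c : G) * n with hm
  have hmN : m ∈ Subgroup.normalizer ((P : Subgroup G) : Set G) :=
    Sylow.smul_eq_iff_mem_normalizer.mp hc2
  set f := Subgroup.normalizerMonoidHom (P : Subgroup G) ⟨m, hmN⟩ with hf
  have huu' : (n : G) * ((u : L) : G) * (n : G)⁻¹ = ((u' : L) : G) := by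
    simpa using congrArg (Subtype.val : L → G) hne'
  have hf1 : f ≠ 1 := by
    intro e
    have h1 : m * ((u : L) : G) * m⁻¹ = ((u : L) : G) := by
      have := congrArg (fun f : MulAut (P : Subgroup G) => ((f y : (P : Subgroup G)) : G)) e
      exact this
    have h2 : (c : G) * ((u' : L) : G) * (c : G)⁻¹ = ((u' : L) : G) := by
      rw [← Subgroup.mem_centralizer_iff.1 c.2 _ ⟨(hmemU u').1 u'.2, (u' : L).2⟩,
        mul_inv_cancel_right]
    refine hne (Subtype.ext (Subtype.ext ?_))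
    calc ((u' : L) : G) = (c : G) * ((n : G) * ((u : L) : G) * (n : G)⁻¹) * (c : G)⁻¹ := by
          rw [huu', h2]
      _ = m * ((u : L) : G) * m⁻¹ := by rw [hm]; group
      _ = _ := h1
  -- `m` moves `P` only inside `L`
  have hcu : (c : G) ∈ Subgroup.centralizer ({(y : G)} : Set G) :=
    Subgroup.centralizer_le (Set.singleton_subset_iff.2 (show (y : G) ∈ UG from ⟨y.2, (u : L).2⟩)) c.2
  obtain ⟨K, hKn, hKodd, hKidx⟩ := exists_complement_at hab (y := y)
    fun g hg hgy => by_contra fun hg1 => hy1 (h.eq_one_of_fixed hg hg1 hgy)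
  haveI := hKn
  have hcomm : ∀ w ∈ (P : Subgroup G), ¬ 2 ∣ orderOf ((c : G) * w * (c : G)⁻¹ * w⁻¹) := by
    intro w hw
    let CH := Subgroup.centralizer ({(y : G)} : Set G)
    let ι : (P : Subgroup G) →* CH ⧸ K :=
      (QuotientGroup.mk' K).comp (Subgroup.inclusion (RankOneInvolution.le_centralizer hab y.2))
    have hι : Function.Surjective ι := by
      refine ((Nat.bijective_iff_injective_and_card ι).2
        ⟨(injective_iff_map_eq_one ι).2 fun z hz => ?_, hKidx.symm⟩).2
      by_contra hne1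
      have hzK : Subgroup.inclusion (RankOneInvolution.le_centralizer hab y.2) z ∈ K :=
        (QuotientGroup.eq_one_iff _).1 hz
      refine hKodd ((?_ : 2 ∣ orderOf (Subgroup.inclusion
        (RankOneInvolution.le_centralizer hab y.2) z)).trans (Subgroup.orderOf_dvd_natCard K hzK))
      rw [← Subgroup.orderOf_coe, Subgroup.coe_inclusion]
      exact dvd_orderOf_of_mem z.2 fun e => hne1 (Subtype.ext e)
    set cc : CH := ⟨c, hcu⟩
    set ww : CH := Subgroup.inclusion (RankOneInvolution.le_centralizer hab y.2) ⟨w, hw⟩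
    have hK : cc * ww * cc⁻¹ * ww⁻¹ ∈ K := by
      obtain ⟨p, hp⟩ := hι (QuotientGroup.mk' K cc)
      haveI := hab
      rw [← QuotientGroup.eq_one_iff]
      show QuotientGroup.mk' K (cc * ww * cc⁻¹ * ww⁻¹) = 1
      rw [map_mul, map_mul, map_mul, map_inv, map_inv, ← hp]
      show ι p * ι ⟨w, hw⟩ * (ι p)⁻¹ * (ι ⟨w, hw⟩)⁻¹ = 1
      rw [← map_mul, mul_comm' p ⟨w, hw⟩, map_mul, mul_inv_cancel_right, mul_inv_cancel]
    intro hd
    refine hKodd (dvd_trans ?_ (Subgroup.orderOf_dvd_natCard K hK))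
    rw [← Subgroup.orderOf_coe]
    simpa [cc, ww] using hd
  have hinL : ∀ w ∈ (P : Subgroup G), m * w * m⁻¹ * w⁻¹ ∈ UG := by
    intro w hw
    have hvP : m * w * m⁻¹ * w⁻¹ ∈ (P : Subgroup G) :=
      mul_mem ((Subgroup.mem_normalizer_iff.1 hmN w).1 hw) (inv_mem hw)
    refine ⟨hvP, ?_⟩
    set π := QuotientGroup.mk' L
    have hn1 : π (n : G) = 1 := (QuotientGroup.eq_one_iff _).2 n.2
    have he : π (m * w * m⁻¹ * w⁻¹) = π ((c : G) * w * (c : G)⁻¹ * w⁻¹) := by
      simp [hm, hn1]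
    show m * w * m⁻¹ * w⁻¹ ∈ L
    rw [← QuotientGroup.eq_one_iff]
    show π (m * w * m⁻¹ * w⁻¹) = 1
    obtain ⟨k, hk⟩ := isPow_of_mem hvP
    refine orderOf_eq_one_iff.1 (Nat.eq_one_of_dvd_coprimes (a := 2 ^ k)
      ((Nat.prime_two.coprime_iff_not_dvd.2 (hcomm w hw)).pow_left k)
      (hk ▸ orderOf_map_dvd π _) ?_)
    rw [he]
    exact orderOf_map_dvd π _
  have hle : Nat.card (P : Subgroup G) ≤ Nat.card UG := by
    refine Nat.card_le_card_of_injective
      (fun w : (P : Subgroup G) => (⟨_, hinL w w.2⟩ : UG)) fun a b e => ?_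
    have e' : m * (a : G) * m⁻¹ * (a : G)⁻¹ = m * b * m⁻¹ * (b : G)⁻¹ := congrArg Subtype.val e
    haveI := hab
    have h1 : f (a * b⁻¹) = a * b⁻¹ := by
      have e2 : f a * a⁻¹ = f b * b⁻¹ := Subtype.ext e'
      rw [map_mul, map_inv, mul_inv_eq_iff_eq_mul.1 e2, mul_comm' (f b * b⁻¹) a,
        mul_comm' (f b) b⁻¹, ← mul_assoc, mul_inv_cancel_right]
    exact mul_inv_eq_one.1 (h.eq_one_of_fixed ⟨⟨m, hmN⟩, rfl⟩ hf1 h1)
  have heq : UG = (P : Subgroup G) := Subgroup.eq_of_le_of_card_ge inf_le_left hle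
  refine ⟨?_, fun w hw => ?_⟩
  · rw [hAU, ← Subgroup.card_map_of_injective L.subtype_injective, hU, heq]
  · have hw' : w ∈ UG := heq ▸ hw
    exact congrArg (Subtype.val : L → G) (hsq ⟨w, hw'.2⟩ ((hmemU ⟨w, hw'.2⟩).2 hw))

end CfsgLib.PrimeInertia
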