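import Cfsg.Agent.RankOneInvolution.Fixed
import Cfsg.Agent.SylowCount.Quotient

/-!
# The inertial group and its fixed subgroup in a quotient

If the kernel moves no element of `P` by a normalising element, the inertial group of the image of
`P` has the same order and its fixed subgroup is the image of the fixed subgroup of `P`.
-/

set_option autoImplicit false
set_option linter.style.haveILetI false
set_option linter.unusedSectionVars false

namespace CfsgLib.PrimeInertia

open Cfsg CfsgLib.BlocksFrobenius CfsgLib.RankOneInvolution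

universe u

variable {G : Type u} [Group G] [Fintype G] [Fact (Nat.Prime 2)]

/-- The elements of `P` fixed by the normalizer of `P`. -/
def fixSub (P : Sylow 2 G) : Subgroup G :=
  (P : Subgroup G) ⊓
    Subgroup.centralizer (Subgroup.normalizer ((P : Subgroup G) : Set G) : Set G)

theorem card_map_mk_mul (A H : Subgroup G) [H.Normal] :
    Nat.card (A.map (QuotientGroup.mk' H)) * Nat.card ↥(A ⊓ H) = Nat.card A := by
  set φ := (QuotientGroup.mk' H).comp A.subtype with hφ
  have hr : φ.range = A.map (QuotientGroup.mk' H) := by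
    rw [hφ, MonoidHom.range_comp, Subgroup.range_subtype]
  have hk : φ.ker = H.subgroupOf A := by
    rw [hφ, ← MonoidHom.comap_ker, QuotientGroup.ker_mk']
    rfl
  rw [← hr, ← Subgroup.index_ker, hk, ← Subgroup.inf_subgroupOf_left, mul_comm,
    ← Nat.card_congr (Subgroup.subgroupOfEquivOfLe (inf_le_left : A ⊓ H ≤ A)).toEquiv,
    Subgroup.card_mul_index]

/-- An automorphism of odd order whose square fixes a point fixes it. -/
theorem eq_of_sq_fix {A : Type*} [Group A] [Finite A] {X : Subgroup (MulAut A)}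
    (hX : ¬ 2 ∣ Nat.card X) {f : MulAut A} (hf : f ∈ X) {w : A} (h : f (f w) = w) : f w = w := by
  obtain ⟨m, hm⟩ : ∃ m, Nat.card X = 2 * m + 1 := ⟨Nat.card X / 2, by omega⟩
  have hpow : ∀ j : ℕ, (f ^ (2 * j)) w = w := by
    intro j
    induction j with
    | zero => rfl
    | succ j ih =>
      rw [show 2 * (j + 1) = 2 * j + 1 + 1 by ring, pow_succ, pow_succ, MulAut.mul_apply,
        MulAut.mul_apply, h, ih]
  have h1 : f ^ Nat.card X = 1 :=
    congrArg Subtype.val (pow_card_eq_one' (G := X) (x := ⟨f, hf⟩))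
  rw [hm, pow_succ'] at h1
  calc f w = f ((f ^ (2 * m)) w) := by rw [hpow]
    _ = (f * f ^ (2 * m)) w := rfl
    _ = w := by rw [h1, MulAut.one_apply]

/-- The data of the image of `P` in `G ⧸ H`. -/
theorem exists_quotient_data (P : Sylow 2 G) (hab : IsMulCommutative (P : Subgroup G))
    (H : Subgroup G) [H.Normal]
    (hfix : ∀ n ∈ Subgroup.normalizer ((P : Subgroup G) : Set G), ∀ w ∈ (P : Subgroup G),
      n * w * n⁻¹ * w⁻¹ ∈ H → n * w * n⁻¹ = w) :
    ∃ Q : Sylow 2 (G ⧸ H), IsMulCommutative (Q : Subgroup (G ⧸ H)) ∧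
      Nat.card (aut Q) = Nat.card (aut P) ∧
      Nat.card (Q : Subgroup (G ⧸ H)) * Nat.card ↥((P : Subgroup G) ⊓ H) =
        Nat.card (P : Subgroup G) ∧
      Nat.card (fixSub Q) * Nat.card ↥((P : Subgroup G) ⊓ H) = Nat.card (fixSub P) := by
  set π := QuotientGroup.mk' H with hπ
  set Q : Sylow 2 (G ⧸ H) := P.mapSurjective (QuotientGroup.mk'_surjective H) with hQ
  have hQc : (Q : Subgroup (G ⧸ H)) = (P : Subgroup G).map π := Sylow.coe_mapSurjective _ _
  set N := Subgroup.normalizer ((P : Subgroup G) : Set G) with hN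
  have hcomap : (Subgroup.normalizer ((Q : Subgroup (G ⧸ H)) : Set (G ⧸ H))).comap π = N ⊔ H := by
    rw [hQc]
    exact SylowCount.normalizer_map_mk_comap P H
  have hup : ∀ n ∈ N, π n ∈ Subgroup.normalizer ((Q : Subgroup (G ⧸ H)) : Set (G ⧸ H)) := by
    intro n hn
    have : n ∈ N ⊔ H := Subgroup.mem_sup_left hn
    rwa [← hcomap, Subgroup.mem_comap] at this
  have hdown : ∀ x, x ∈ Subgroup.normalizer ((Q : Subgroup (G ⧸ H)) : Set (G ⧸ H)) →
      ∃ n ∈ N, π n = x := by
    intro x hx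
    obtain ⟨g, rfl⟩ := QuotientGroup.mk'_surjective H x
    have hg : g ∈ N ⊔ H := by rw [← hcomap]; exact hx
    rw [← SetLike.mem_coe, Subgroup.mul_normal] at hg
    obtain ⟨n, hn, k, hk, rfl⟩ := hg
    exact ⟨n, hn, by rw [map_mul, show π k = 1 from (QuotientGroup.eq_one_iff k).2 hk, mul_one]⟩
  have hmemQ : ∀ a : (Q : Subgroup (G ⧸ H)), ∃ w ∈ (P : Subgroup G), π w = (a : G ⧸ H) := by
    intro a
    obtain ⟨w, hw, e⟩ := (SetLike.ext_iff.1 hQc (a : G ⧸ H)).1 a.2
    exact ⟨w, hw, e⟩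
  refine ⟨Q, ?_, ?_, ?_, ?_⟩
  · refine ⟨⟨fun a b => Subtype.ext ?_⟩⟩
    obtain ⟨x, hx, ex⟩ := hmemQ a
    obtain ⟨y, hy, ey⟩ := hmemQ b
    show (a : G ⧸ H) * b = b * a
    rw [← ex, ← ey, ← map_mul, ← map_mul, mul_comm_mem hab hx hy]
  · let ψ : N →* MulAut (Q : Subgroup (G ⧸ H)) :=
      (Subgroup.normalizerMonoidHom (Q : Subgroup (G ⧸ H))).comp
        ((π.comp N.subtype).codRestrict _ fun n => hup n n.2)
    have hrange : ψ.range = aut Q := by
      refine le_antisymm ?_ ?_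
      · rintro _ ⟨n, rfl⟩
        exact ⟨_, rfl⟩
      · rintro _ ⟨⟨x, hx⟩, rfl⟩
        obtain ⟨n, hn, rfl⟩ := hdown x hx
        exact ⟨⟨n, hn⟩, rfl⟩
    have hker : ψ.ker = (Subgroup.centralizer ((P : Subgroup G) : Set G)).subgroupOf N := by
      ext ⟨n, hn⟩
      rw [MonoidHom.mem_ker, Subgroup.mem_subgroupOf]
      constructor
      · intro h
        refine Subgroup.mem_centralizer_iff.2 fun w hw => ?_
        have h1 := congrArg (fun f : MulAut (Q : Subgroup (G ⧸ H)) =>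
          ((f ⟨π w, hQc ▸ ⟨w, hw, rfl⟩⟩ : (Q : Subgroup (G ⧸ H))) : G ⧸ H)) h
        simp only [MulAut.one_apply] at h1
        have h1' : π n * π w * (π n)⁻¹ = π w := h1
        have hm : n * w * n⁻¹ * w⁻¹ ∈ H := by
          rw [← QuotientGroup.eq_one_iff]
          show π (n * w * n⁻¹ * w⁻¹) = 1
          rw [map_mul, map_mul, map_mul, map_inv, map_inv, h1', mul_inv_cancel]
        exact (mul_inv_eq_iff_eq_mul.1 (hfix n hn w hw hm)).symm
      · intro h
        refine MulEquiv.ext fun a => Subtype.ext ?_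
        obtain ⟨w, hw, ew⟩ := hmemQ a
        show π n * (a : G ⧸ H) * (π n)⁻¹ = a
        rw [← ew, ← map_inv, ← map_mul, ← map_mul,
          show n * w = w * n from (Subgroup.mem_centralizer_iff.1 h w hw).symm, mul_inv_cancel_right]
    rw [← hrange, ← Subgroup.index_ker, hker, card_aut]
    rfl
  · rw [hQc]
    exact card_map_mk_mul _ _
  · have hle : (P : Subgroup G) ⊓ H ≤ fixSub P := fun w hw =>
      ⟨hw.1, Subgroup.mem_centralizer_iff.2 fun n hn => mul_inv_eq_iff_eq_mul.1 (hfix n hn w hw.1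
        (mul_mem ((inferInstance : H.Normal).conj_mem w hw.2 n) (inv_mem hw.2)))⟩
    have hinf : fixSub P ⊓ H = (P : Subgroup G) ⊓ H :=
      le_antisymm (inf_le_inf_right H inf_le_left) (le_inf hle inf_le_right)
    have hmap : fixSub Q = (fixSub P).map π := by
      ext x
      constructor
      · rintro ⟨hxQ, hxC⟩
        obtain ⟨w, hw, rfl⟩ := hQc ▸ hxQ
        refine ⟨w, ⟨hw, Subgroup.mem_centralizer_iff.2 fun n hn => mul_inv_eq_iff_eq_mul.1
          (hfix n hn w hw ?_)⟩, rfl⟩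
        have h1 := Subgroup.mem_centralizer_iff.1 hxC (π n) (hup n hn)
        rw [← QuotientGroup.eq_one_iff]
        show π (n * w * n⁻¹ * w⁻¹) = 1
        rw [map_mul, map_mul, map_mul, map_inv, map_inv, h1, mul_inv_cancel_right, mul_inv_cancel]
      · rintro ⟨w, ⟨hw, hwC⟩, rfl⟩
        refine ⟨hQc ▸ ⟨w, hw, rfl⟩, Subgroup.mem_centralizer_iff.2 fun y hy => ?_⟩
        obtain ⟨n, hn, rfl⟩ := hdown y hy
        rw [← map_mul, ← map_mul, Subgroup.mem_centralizer_iff.1 hwC n hn]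
    rw [hmap, ← hinf]
    exact card_map_mk_mul _ _

/-- Odd kernels move nothing. -/
theorem fix_of_odd (P : Sylow 2 G) (H : Subgroup G) (hH : ¬ 2 ∣ Nat.card H) :
    ∀ n ∈ Subgroup.normalizer ((P : Subgroup G) : Set G), ∀ w ∈ (P : Subgroup G),
      n * w * n⁻¹ * w⁻¹ ∈ H → n * w * n⁻¹ = w := by
  intro n hn w hw hm
  by_contra hne
  refine hH ((dvd_orderOf_of_mem (mul_mem ((Subgroup.mem_normalizer_iff.1 hn w).1 hw) (inv_mem hw))
    fun e => hne (mul_inv_eq_one.1 e)).trans (Subgroup.orderOf_dvd_natCard H hm))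

theorem inf_eq_bot_of_odd (P : Sylow 2 G) (H : Subgroup G) (hH : ¬ 2 ∣ Nat.card H) :
    (P : Subgroup G) ⊓ H = ⊥ := by
  refine (Subgroup.eq_bot_iff_forall _).2 fun w hw => ?_
  by_contra hne
  exact hH ((dvd_orderOf_of_mem hw.1 hne).trans (Subgroup.orderOf_dvd_natCard H hw.2))

/-- A kernel generated by a fixed involution moves nothing. -/
theorem fix_of_fixed_involution (P : Sylow 2 G) (hab : IsMulCommutative (P : Subgroup G)) {z : G}
    (hz : z * z = 1)
    (hzN : ∀ n ∈ Subgroup.normalizer ((P : Subgroup G) : Set G), n * z * n⁻¹ = z) :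
    ∀ n ∈ Subgroup.normalizer ((P : Subgroup G) : Set G), ∀ w ∈ (P : Subgroup G),
      n * w * n⁻¹ * w⁻¹ ∈ Subgroup.zpowers z → n * w * n⁻¹ = w := by
  intro n hn w hw hm
  obtain ⟨i, hi⟩ := hm
  have hi' : n * w * n⁻¹ = z ^ i * w := by
    rw [show z ^ i = n * w * n⁻¹ * w⁻¹ from hi, inv_mul_cancel_right]
  have hzi : n * z ^ i * n⁻¹ = z ^ i := by rw [← conj_zpow, hzN n hn]
  set f := Subgroup.normalizerMonoidHom (P : Subgroup G) ⟨n, hn⟩ with hf
  have hsq : f (f ⟨w, hw⟩) = ⟨w, hw⟩ := by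
    refine Subtype.ext ?_
    rw [hf, coe_aut_apply, coe_aut_apply]
    show n * (n * w * n⁻¹) * n⁻¹ = w
    rw [hi', show n * (z ^ i * w) * n⁻¹ = (n * z ^ i * n⁻¹) * (n * w * n⁻¹) by group, hzi, hi',
      ← mul_assoc, ← zpow_add, ← two_mul, zpow_mul, zpow_two, hz, one_zpow, one_mul]
  have h := congrArg Subtype.val
    (eq_of_sq_fix (not_two_dvd_card_aut hab) ⟨_, rfl⟩ hsq : f ⟨w, hw⟩ = _)
  exact h

end CfsgLib.PrimeInertia
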