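import Cfsg.Agent.BlocksLocal.PrincipalColumn
import Cfsg.Agent.BlockPairing.Subsections
import Cfsg.Agent.InertialQuotient.NilpotentRank

/-!
# The principal block under isomorphisms and quotients by normal p'-subgroups

The number of irreducible characters and the p-regular rank of the principal block are unchanged.
-/

set_option autoImplicit false
set_option linter.style.haveILetI false
set_option linter.unusedSectionVars false

namespace CfsgLib.PrimeInertia

open Cfsg CfsgLib.Blocks CfsgLib.BlockPairing CfsgLib.PrincipalBlock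
open scoped ComplexConjugate

universe u v

variable {G : Type u} [Group G] [Fintype G] {M : Ideal AlgInt} [M.IsPrime] {p : ℕ} [Fact p.Prime]

open Classical in
/-- The rank of the principal block is a sum of norms over the p-regular elements. -/
theorem blockRank_principal_eq_sum (hM : Cfsg.IsPModular p M) :
    ((Cfsg.blockRank p (Cfsg.principalBlock M G) : ℕ) : ℂ) =
      ∑ ξ : IrrCharacter G,
        if ξ ∈ Cfsg.principalBlock M G then regInner p (ξ : G → ℂ) ξ else 0 :=
  blockRank_eq_sum hM (isBlockUnion_of_isPBlock isPBlock_principalBlock)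

/-- Two principal blocks in a bijection preserving the norms have the same rank. -/
theorem blockRank_eq_of_bijOn (hM : Cfsg.IsPModular p M) {H : Type v} [Group H] [Fintype H]
    (f : IrrCharacter H → IrrCharacter G)
    (hf : Set.BijOn f (Cfsg.principalBlock M H) (Cfsg.principalBlock M G))
    (hn : ∀ ψ : IrrCharacter H, regInner p (f ψ : G → ℂ) (f ψ) = regInner p (ψ : H → ℂ) ψ) :
    Cfsg.blockRank p (Cfsg.principalBlock M G) = Cfsg.blockRank p (Cfsg.principalBlock M H) := by
  classical
  apply Nat.cast_injective (R := ℂ)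
  rw [blockRank_principal_eq_sum hM, blockRank_principal_eq_sum hM, ← Finset.sum_filter,
    ← Finset.sum_filter]
  symm
  refine Finset.sum_bij (fun ψ _ => f ψ) (fun ψ hψ => ?_) (fun a ha b hb e => ?_) (fun χ hχ => ?_)
    (fun ψ _ => (hn ψ).symm)
  · exact Finset.mem_filter.2 ⟨Finset.mem_univ _, hf.mapsTo (Finset.mem_filter.1 hψ).2⟩
  · exact hf.injOn (Finset.mem_filter.1 ha).2 (Finset.mem_filter.1 hb).2 e
  · obtain ⟨ψ, hψ, e⟩ := hf.surjOn (Finset.mem_filter.1 hχ).2
    exact ⟨ψ, Finset.mem_filter.2 ⟨Finset.mem_univ _, hψ⟩, e⟩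

section Quotient

variable (H : Subgroup G) [H.Normal] [Fintype (G ⧸ H)]

/-- Rank and size of the principal block of a quotient by a normal p'-subgroup. -/
theorem invariants_quotient (hM : Cfsg.IsPModular p M) (hH : ¬ p ∣ Nat.card H) :
    Cfsg.blockRank p (Cfsg.principalBlock M G) =
        Cfsg.blockRank p (Cfsg.principalBlock M (G ⧸ H)) ∧
      Nat.card (Cfsg.principalBlock M G) = Nat.card (Cfsg.principalBlock M (G ⧸ H)) := by
  classical
  have hbij := PrincipalColumn.bijOn_inflate H hM hH
  refine ⟨blockRank_eq_of_bijOn hM _ hbij fun ψ => ?_, (Nat.card_congr (hbij.equiv _)).symm⟩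
  simp only [regInner, PrincipalColumn.inflate_apply]
  have h1 : ∑ g : G, (if p ∣ orderOf g then (0 : ℂ) else
      (ψ : G ⧸ H → ℂ) (QuotientGroup.mk g) * conj ((ψ : G ⧸ H → ℂ) (QuotientGroup.mk g))) =
      (Nat.card H : ℂ) * ∑ q : G ⧸ H,
        if p ∣ orderOf q then (0 : ℂ) else (ψ : G ⧸ H → ℂ) q * conj ((ψ : G ⧸ H → ℂ) q) := by
    rw [← PrincipalColumn.sum_comp_mk H]
    exact Finset.sum_congr rfl fun g _ =>
      if_congr (PrincipalColumn.dvd_orderOf_mk_iff H hH g).symm rfl rfl
  rw [h1, Subgroup.card_eq_card_quotient_mul_card_subgroup H, Nat.cast_mul, mul_inv,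
    mul_assoc, inv_mul_cancel_left₀ (Nat.cast_ne_zero.2 Nat.card_pos.ne')]

end Quotient

/-- An isomorphism keeps the rank of the principal block. -/
theorem blockRank_mulEquiv (hM : Cfsg.IsPModular p M) {H : Type v} [Group H] [Fintype H]
    (e : H ≃* G) :
    Cfsg.blockRank p (Cfsg.principalBlock M H) = Cfsg.blockRank p (Cfsg.principalBlock M G) := by
  classical
  have hG : Nat.card H = Nat.card G := Nat.card_congr e.toEquiv
  let f : IrrCharacter G → IrrCharacter H := fun ψ =>
    ⟨fun h => (ψ : G → ℂ) (e h), Characters.isIrr_comp e.toMonoidHom e.surjective ψ.2⟩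
  have hfun : ∀ (a b : G → ℂ),
      regInner p (fun h => a (e h)) (fun h => b (e h)) = regInner p a b := by
    intro a b
    simp only [regInner, hG]
    congr 1
    rw [← Equiv.sum_comp e.toEquiv
      (fun g => if p ∣ orderOf g then (0 : ℂ) else a g * conj (b g))]
    exact Finset.sum_congr rfl fun h _ => if_congr (by rw [MulEquiv.toEquiv_eq_coe,
      MulEquiv.coe_toEquiv, e.orderOf_eq]) rfl rfl
  refine blockRank_eq_of_bijOn hM f ⟨fun ψ hψ => ?_, fun a _ b _ h => ?_, fun χ hχ => ?_⟩
    fun ψ => hfun _ _
  · rw [PrincipalColumn.mem_principalBlock_iff_regInner hM] at hψ ⊢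
    refine fun h0 => hψ ?_
    rw [← hfun]
    exact h0
  · refine Subtype.ext (funext fun g => ?_)
    obtain ⟨h', rfl⟩ := e.surjective g
    exact congrFun (congrArg Subtype.val h) h'
  · refine ⟨⟨fun g => (χ : H → ℂ) (e.symm g),
      Characters.isIrr_comp e.symm.toMonoidHom e.symm.surjective χ.2⟩, ?_, ?_⟩
    · rw [PrincipalColumn.mem_principalBlock_iff_regInner hM] at hχ ⊢
      refine fun h0 => hχ ?_
      rw [← hfun] at h0
      convert h0 using 2
      · funext h
        simp
      · funext h
        simp [trivChar_apply]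
    · exact Subtype.ext (funext fun h => by simp [f])

end CfsgLib.PrimeInertia
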