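import Cfsg.Agent.RankOneInvolution.Main
import Cfsg.Agent.Blocks.OneBlock
import Cfsg.Agent.PLocal.PSolvable
import Cfsg.Agent.LocalStructure.Cores
import Cfsg.Agent.PrimeInertia.Transport

/-!
# A solvable group with a semiregular inertial group and trivial odd core

`P` is normal and self-centralizing, so there is one block, and the sum of `|C(g)|` over the regular
elements gives the rank.
-/

set_option autoImplicit false
set_option linter.style.haveILetI false
set_option linter.unusedSectionVars false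

namespace CfsgLib.PrimeInertia

open Cfsg CfsgLib.Blocks CfsgLib.BlockPairing CfsgLib.BlocksFrobenius CfsgLib.RankOneInvolution
  CfsgLib.PrincipalBlock
open scoped ComplexConjugate

universe u

variable {G : Type u} [Group G] [Fintype G] [Fact (Nat.Prime 2)] {M : Ideal AlgInt} [M.IsPrime]

open Classical in
/-- With one block the rank is the mean of `|C(g)|` over the regular elements. -/
theorem card_mul_blockRank (hM : Cfsg.IsPModular 2 M) {p : ℕ} (hp : p = 2)
    (hall : ∀ χ : IrrCharacter G, χ ∈ Cfsg.principalBlock M G) :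
    Nat.card G * Cfsg.blockRank 2 (Cfsg.principalBlock M G) =
      ∑ g : G, if p ∣ orderOf g then 0 else Nat.card (Subgroup.centralizer ({g} : Set G)) := by
  subst hp
  apply Nat.cast_injective (R := ℂ)
  rw [Nat.cast_mul, blockRank_principal_eq_sum hM, Nat.cast_sum,
    Finset.sum_congr rfl (fun χ _ => if_pos (hall χ))]
  simp only [regInner, ← Finset.mul_sum]
  rw [mul_inv_cancel_left₀ (Nat.cast_ne_zero.2 Nat.card_pos.ne'), Finset.sum_comm]
  refine Finset.sum_congr rfl fun g _ => ?_
  split_ifs with hg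
  · simp
  · exact Characters.sum_irr_mul_conj_of_isConj (IsConj.refl g)

open Classical in
theorem blockRank_solvable_semireg (hM : Cfsg.IsPModular 2 M) {P : Sylow 2 G} (h : Semireg P)
    (hA : (Nat.card (aut P)).Prime) (hs : Group.IsSolvable G)
    (hO : ∀ N : Subgroup G, N.Normal → Odd (Nat.card N) → N = ⊥) :
    Cfsg.blockRank 2 (Cfsg.principalBlock M G) = Nat.card (aut P) := by
  set A := Nat.card (aut P) with hAdef
  have hab := h.comm
  -- the Sylow subgroup is normal and self-centralizing
  set Q := Cfsg.pCore 2 G with hQ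
  have hQp : IsPGroup 2 Q := CfsgLib.LocalStructure.pCore_isPGroup
  have hpp : Cfsg.pPrimeCore 2 G = ⊥ := hO _ inferInstance
    (Nat.coprime_two_right.mp (CfsgLib.PLocal.coprime_card_pPrimeCore 2 G))
  have hCQ : Subgroup.centralizer (Q : Set G) ≤ Q :=
    CfsgLib.PLocal.centralizer_pCore_le CfsgLib.PLocal.isPSolvable_of_isSolvable hpp
  haveI : Q.Normal := inferInstance
  have hQP : Q ≤ (P : Subgroup G) := by
    obtain ⟨R, hR⟩ := hQp.exists_le_sylow
    obtain ⟨c, hc⟩ := MulAction.exists_smul_eq G R P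
    intro w hw
    rw [← hc]
    exact ⟨c⁻¹ * w * c, hR (by simpa using (inferInstance : Q.Normal).conj_mem w hw c⁻¹),
      by show c * (c⁻¹ * w * c) * c⁻¹ = w; group⟩
  have hPQ : (P : Subgroup G) = Q :=
    le_antisymm (fun w hw => hCQ (Subgroup.mem_centralizer_iff.2 fun z hz =>
      mul_comm_mem hab (hQP hz) hw)) hQP
  have hN : ∀ g : G, g ∈ Subgroup.normalizer ((P : Subgroup G) : Set G) := fun g => by
    rw [hPQ, Subgroup.normalizer_eq_top_iff.2 ‹Q.Normal›]
    trivial
  have hCP : ∀ g : G, g ∈ Subgroup.centralizer ((P : Subgroup G) : Set G) ↔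
      g ∈ (P : Subgroup G) := fun g =>
    ⟨fun hg => hPQ ▸ hCQ (hPQ ▸ hg), fun hg =>
      Subgroup.mem_centralizer_iff.2 fun z hz => mul_comm_mem hab hz hg⟩
  have hall : ∀ χ : IrrCharacter G, χ ∈ Cfsg.principalBlock M G := fun χ => by
    rw [principalBlock_eq]
    exact sameBlock_of_centralizer_le hM Q hQp hCQ (trivChar G) χ
  set q := Nat.card (P : Subgroup G) with hq
  have hG : Nat.card G = q * A := by
    rw [hAdef, card_aut, ← Subgroup.card_mul_index (P : Subgroup G)]
    congr 1
    have e1 : Subgroup.centralizer ((P : Subgroup G) : Set G) = (P : Subgroup G) :=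
      SetLike.ext hCP
    have e2 : Subgroup.normalizer ((P : Subgroup G) : Set G) = ⊤ :=
      eq_top_iff.2 fun g _ => hN g
    rw [e1, e2, Subgroup.relIndex_top_right]
  -- outside `P`
  have hout : ∀ g : G, g ∉ (P : Subgroup G) →
      ¬ 2 ∣ orderOf g ∧ Nat.card (Subgroup.centralizer ({g} : Set G)) = A := by
    intro g hg
    have hcen : ∀ w ∈ (P : Subgroup G), g * w = w * g → w = 1 := by
      intro w hw hc
      by_contra hne
      exact hg ((hCP g).1 (h.free w hw hne ▸
        ⟨Subgroup.mem_centralizer_singleton_iff.2 hc, hN g⟩))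
    have hgA : g ^ A = 1 := by
      refine hcen _ ?_ ?_
      · have h1 : (Subgroup.normalizerMonoidHom (P : Subgroup G) ⟨g, hN g⟩) ^ A = 1 :=
          congrArg Subtype.val (pow_card_eq_one' (G := aut P) (x := ⟨_, ⟨⟨g, hN g⟩, rfl⟩⟩))
        rw [← map_pow, ← MonoidHom.mem_ker, Subgroup.normalizerMonoidHom_ker] at h1
        exact (hCP _).1 h1
      · exact (Commute.self_pow g A).eq
    have hg1 : g ≠ 1 := fun e => hg (e ▸ one_mem _)
    have hord : orderOf g = A :=
      (hA.eq_one_or_self_of_dvd _ (orderOf_dvd_of_pow_eq_one hgA)).resolve_left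
        fun e => hg1 (orderOf_eq_one_iff.1 e)
    refine ⟨hord ▸ not_two_dvd_card_aut hab, ?_⟩
    refine le_antisymm ?_ ?_
    · have hinj : Function.Injective (fun c : Subgroup.centralizer ({g} : Set G) =>
          (⟨_, ⟨⟨c, hN c⟩, rfl⟩⟩ : aut P)) := by
        intro a b e
        have e' : Subgroup.normalizerMonoidHom (P : Subgroup G) ⟨(b : G)⁻¹ * a, hN _⟩ = 1 := by
          rw [show (⟨(b : G)⁻¹ * a, hN _⟩ :
              Subgroup.normalizer ((P : Subgroup G) : Set G)) = ⟨b, hN _⟩⁻¹ * ⟨a, hN _⟩ from rfl,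
            map_mul, map_inv, inv_mul_eq_one]
          exact (congrArg Subtype.val e).symm
        rw [← MonoidHom.mem_ker, Subgroup.normalizerMonoidHom_ker] at e'
        refine Subtype.ext (inv_mul_eq_one.1 (hcen _ ((hCP _).1 e') ?_)).symm
        exact (Subgroup.mem_centralizer_singleton_iff.1 (mul_mem (inv_mem b.2) a.2)).symm
      exact Nat.card_le_card_of_injective _ hinj
    · rw [← hord, ← Nat.card_zpowers]
      exact Subgroup.card_le_of_le (Subgroup.zpowers_le.2
        (Subgroup.mem_centralizer_singleton_iff.2 rfl))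
  have hsum := card_mul_blockRank hM rfl hall
  rw [← Finset.sum_filter_add_sum_filter_not Finset.univ (fun g : G => g ∈ (P : Subgroup G))] at hsum
  have hin : ∑ g ∈ Finset.univ.filter (fun g : G => g ∈ (P : Subgroup G)),
      (if 2 ∣ orderOf g then 0 else Nat.card (Subgroup.centralizer ({g} : Set G))) = q * A := by
    rw [Finset.sum_eq_single (1 : G) (fun g hg hne => ?_) (fun hn => absurd (Finset.mem_filter.2
      ⟨Finset.mem_univ _, one_mem _⟩) hn), if_neg (by simp), ← hG]
    · rw [show Subgroup.centralizer ({1} : Set G) = ⊤ from eq_top_iff.2 fun g _ =>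
        Subgroup.mem_centralizer_singleton_iff.2 (by simp), Subgroup.card_top]
    · exact if_pos (dvd_orderOf_of_mem (Finset.mem_filter.1 hg).2 hne)
  have hoff : ∑ g ∈ Finset.univ.filter (fun g : G => ¬ g ∈ (P : Subgroup G)),
      (if 2 ∣ orderOf g then 0 else Nat.card (Subgroup.centralizer ({g} : Set G))) =
        (q * A - q) * A := by
    rw [Finset.sum_congr rfl (g := fun _ => A) fun g hg => by
      obtain ⟨h1, h2⟩ := hout g (Finset.mem_filter.1 hg).2
      rw [if_neg h1, h2], Finset.sum_const, smul_eq_mul, Finset.filter_not,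
      Finset.card_sdiff_of_subset (Finset.filter_subset _ _), Finset.card_univ,
      ← Nat.card_eq_fintype_card, hG, ← Fintype.card_subtype, ← Nat.card_eq_fintype_card]
  rw [hin, hoff, hG] at hsum
  have hA1 : 1 ≤ A := hA.pos
  refine Nat.eq_of_mul_eq_mul_left (show 0 < q * A from Nat.mul_pos Nat.card_pos hA.pos) ?_
  rw [hsum, Nat.sub_mul, ← Nat.add_sub_assoc (Nat.mul_le_mul_right _ (Nat.le_mul_of_pos_right _ hA.pos))]
  omega

end CfsgLib.PrimeInertia
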