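import Cfsg.Agent.PrimeInertia.Transport
import Cfsg.Agent.PrimeInertia.Quotient
import Cfsg.Agent.PrimeInertia.Solvable
import Cfsg.Agent.PrimeInertia.PSL
import Cfsg.Agent.S4571
import Cfsg.Agent.S0205
import Cfsg.Agent.ZStar.Theorem
import Cfsg.Agent.ExtremelyClosed.Reduction

/-!
# An abelian Sylow 2-subgroup with inertial group of prime order

`main`: the principal block has rank `|A|`; if the group is not solvable it has `|P|` irreducible
characters and `|P| = |F| (|A| + 1)`, `F` the subgroup fixed by `A`. The classification of groups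
with abelian Sylow 2-subgroups and solvable involution centralizers is a hypothesis.
-/

set_option autoImplicit false
set_option linter.style.haveILetI false
set_option linter.unusedSectionVars false

namespace CfsgLib.PrimeInertia

open Cfsg CfsgLib.Blocks CfsgLib.PrincipalBlock CfsgLib.BlocksFrobenius CfsgLib.RankOneInvolution

universe u

/-- The classification by solvable involution centralizers. -/
def SolvCentClass : Prop :=
  ∀ (H : Type u) [Group H] [Finite H] (S : Sylow 2 H), IsMulCommutative ↥(S : Subgroup H) →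
    (∀ t : H, orderOf t = 2 → Group.IsSolvable ↥(Subgroup.centralizer ({t} : Set H))) →
    Group.IsSolvable H ∨
      ∃ (F : Type) (_ : Field F) (_ : Fintype F),
        (((Fintype.card F % 8 = 3 ∨ Fintype.card F % 8 = 5) ∧ 5 ≤ Fintype.card F) ∨
          (∃ n : ℕ, 2 ≤ n ∧ Fintype.card F = 2 ^ n)) ∧
        ∃ N : Subgroup (H ⧸ Cfsg.oddCore H), N.Normal ∧
          Nonempty (↥N ≃* Matrix.ProjectiveSpecialLinearGroup (Fin 2) F) ∧
          Subgroup.centralizer (N : Set (H ⧸ Cfsg.oddCore H)) = ⊥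

/-- The invariants. -/
def Invariants (M : Ideal AlgInt) {G : Type u} [Group G] (P : Sylow 2 G) [Fintype G] : Prop :=
  Cfsg.blockRank 2 (Cfsg.principalBlock M G) = Nat.card (aut P) ∧
    (¬ Group.IsSolvable G → Nat.card (Cfsg.principalBlock M G) = Nat.card (P : Subgroup G) ∧
      Nat.card (fixSub P) * (Nat.card (aut P) + 1) = Nat.card (P : Subgroup G))

section Basic

variable {G : Type u} [Group G] [Fintype G] [Fact (Nat.Prime 2)] {M : Ideal AlgInt} [M.IsPrime]

theorem fixed_eq_fixSub {P : Sylow 2 G} {F V : Subgroup G} {a : MulAut (P : Subgroup G)}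
    (ha : a ∈ aut P) (hF : Fixed P F V) (hfix : ∀ w : (P : Subgroup G), a w = w ↔ (w : G) ∈ F) :
    F = fixSub P := by
  refine le_antisymm (fun w hw => ⟨hF.leF hw, Subgroup.mem_centralizer_iff.2 fun n hn => ?_⟩) ?_
  · rintro w ⟨hwP, hwC⟩
    obtain ⟨⟨n, hn⟩, rfl⟩ := ha
    exact (hfix ⟨w, hwP⟩).1 (aut_fix_of_commute hn (Subgroup.mem_centralizer_iff.1 hwC n hn))
  · exact mul_inv_eq_iff_eq_mul.1
      (congrArg Subtype.val (hF.fix _ ⟨⟨n, hn⟩, rfl⟩ ⟨w, hF.leF hw⟩ hw))

/-- A centralizer containing the normalizer has the same inertial group. -/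
theorem card_aut_subtype {P : Sylow 2 G} {C : Subgroup G} [Fintype C] (hPC : (P : Subgroup G) ≤ C)
    (hNC : Subgroup.normalizer ((P : Subgroup G) : Set G) ≤ C) :
    Nat.card (aut (P.subtype hPC)) = Nat.card (aut P) := by
  rw [card_aut, card_aut]
  have h1 : Subgroup.centralizer (((P.subtype hPC : Sylow 2 C) : Subgroup C) : Set C) =
      (Subgroup.centralizer ((P : Subgroup G) : Set G)).subgroupOf C := by
    ext c
    rw [Sylow.coe_subtype, Subgroup.mem_subgroupOf, Subgroup.mem_centralizer_iff,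
      Subgroup.mem_centralizer_iff]
    exact ⟨fun h w hw => congrArg Subtype.val (h ⟨w, hPC hw⟩ hw),
      fun h w hw => Subtype.ext (h w hw)⟩
  have h2 : Subgroup.normalizer (((P.subtype hPC : Sylow 2 C) : Subgroup C) : Set C) =
      (Subgroup.normalizer ((P : Subgroup G) : Set G)).subgroupOf C := by
    rw [Sylow.coe_subtype]
    exact (Subgroup.subgroupOf_normalizer_eq hPC).symm
  rw [h1, h2]
  exact Subgroup.relIndex_subgroupOf hNC

/-- A centralizer in the semiregular case is solvable. -/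
theorem solvable_centralizer {P : Sylow 2 G} (hab : IsMulCommutative (P : Subgroup G))
    (hfree : ∀ f ∈ aut P, ∀ w : (P : Subgroup G), w ≠ 1 → f w = w → f = 1) {t : G}
    (ht : orderOf t = 2) : Group.IsSolvable (Subgroup.centralizer ({t} : Set G)) := by
  obtain ⟨x, hx, hc⟩ := exists_conj_mem P (g := t) ⟨1, by rw [ht, pow_one]⟩
  obtain ⟨c, rfl⟩ := isConj_iff.1 hc
  have hx1 : (⟨_, hx⟩ : (P : Subgroup G)) ≠ 1 := fun e => by
    have : t = 1 := conj_eq_one_iff.1 (congrArg Subtype.val e : c * t * c⁻¹ = 1)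
    rw [this, orderOf_one] at ht
    omega
  obtain ⟨K, hKn, hKodd, hKidx⟩ := exists_complement_at hab (y := ⟨_, hx⟩)
    fun f hf => hfree f hf _ hx1
  haveI := hKn
  haveI : Group.IsSolvable K :=
    Cfsg.Agent.S0205.result (Nat.odd_iff.2 (Nat.two_dvd_ne_zero.1 hKodd))
  obtain ⟨n, hn⟩ := P.2.exists_card_eq
  have hq : IsPGroup 2 (Subgroup.centralizer ({c * t * c⁻¹} : Set G) ⧸ K) :=
    IsPGroup.of_card (n := n) (by rw [← Subgroup.index_eq_card, hKidx, hn])
  haveI := hq.isNilpotent
  haveI : Group.IsSolvable (Subgroup.centralizer ({c * t * c⁻¹} : Set G)) :=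
    Group.isSolvable_of_ker_le_range K.subtype (QuotientGroup.mk' K) (by simp)
  let φ : Subgroup.centralizer ({t} : Set G) →* Subgroup.centralizer ({c * t * c⁻¹} : Set G) :=
    { toFun := fun d => ⟨c * d * c⁻¹, Subgroup.mem_centralizer_singleton_iff.2 (by
        rw [show c * d * c⁻¹ * (c * t * c⁻¹) = c * (d * t) * c⁻¹ by group,
          Subgroup.mem_centralizer_singleton_iff.1 d.2]
        group)⟩
      map_one' := Subtype.ext (by simp)
      map_mul' := fun a b => Subtype.ext (by simp [mul_assoc]) }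
  refine Group.isSolvable_of_isSolvable_injective (f := φ) fun a b e => Subtype.ext ?_
  exact mul_left_cancel (mul_right_cancel
    (congrArg Subtype.val e : c * (a : G) * c⁻¹ = c * b * c⁻¹))

/-- The semiregular case with trivial odd core. -/
theorem invariants_semireg (hcl : SolvCentClass.{u}) (hM : Cfsg.IsPModular 2 M) {P : Sylow 2 G}
    (hab : IsMulCommutative (P : Subgroup G)) (hA : (Nat.card (aut P)).Prime)
    (hbot : fixSub P = ⊥) (hO : Cfsg.oddCore G = ⊥)
    (hfree : ∀ f ∈ aut P, ∀ w : (P : Subgroup G), w ≠ 1 → f w = w → f = 1) :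
    Invariants M P := by
  have hS := semireg_of_free hab hfree
  have hOdd : ∀ N : Subgroup G, N.Normal → Odd (Nat.card N) → N = ⊥ := fun N hn ho =>
    le_bot_iff.1 (hO ▸ CfsgLib.ExtremelyClosed.le_oddCore_of_odd hn ho)
  by_cases hs : Group.IsSolvable G
  · exact ⟨blockRank_solvable_semireg hM hS hA hs hOdd, fun h => absurd hs h⟩
  obtain ⟨F0, iF, iFt, hq, N, hN, ⟨iso⟩, -⟩ :=
    (hcl G P hab fun t ht => solvable_centralizer hab hfree ht).resolve_left hs
  let e0 : G ⧸ Cfsg.oddCore G ≃* G :=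
    (QuotientGroup.quotientMulEquivOfEq hO).trans QuotientGroup.quotientBot
  set L := N.map e0.toMonoidHom with hL
  haveI : L.Normal := hN.map e0.toMonoidHom e0.surjective
  obtain ⟨U, hU⟩ := CfsgLib.UniqueMaximal.exists_sylow_map_eq_inf L P
  obtain ⟨h4, hsqab, hconj⟩ := psl_sylow_data hq ((e0.subgroupMap N).symm.trans iso) U
  have hUab : IsMulCommutative (U : Subgroup L) := ⟨⟨fun a b => Subtype.ext (Subtype.ext
    (mul_comm_mem hab (hU.le ⟨a, a.2, rfl⟩).1 (hU.le ⟨b, b.2, rfl⟩).1))⟩⟩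
  obtain ⟨hfull, hsq⟩ := semireg_full hS L U hU h4 (hsqab hUab) hconj
  haveI : Fact (Nat.card (aut P)).Prime := ⟨hA⟩
  have hk := card_full hS hM hsq hfull (isCyclic_of_prime_card (p := Nat.card (aut P)) rfl)
  have hcount := count hM hab (⊥ : Subgroup G) bot_le
    (fun f hf w hw => by rw [show w = 1 from Subtype.ext (Subgroup.mem_bot.1 hw), map_one])
    (fun f hf w hw hfw => hfree f hf w (fun e => hw (Subgroup.mem_bot.2 (congrArg Subtype.val e)))
      hfw)
    0 (fun v hv hv1 => absurd (Subgroup.mem_bot.1 hv) hv1)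
  rw [hk, Subgroup.card_bot, mul_zero, zero_mul, add_zero] at hcount
  refine ⟨?_, fun _ => ⟨hk, by rw [hbot, Subgroup.card_bot, one_mul, hfull]⟩⟩
  rw [← hfull] at hcount
  have : Nat.card (aut P) * (Cfsg.blockRank 2 (Cfsg.principalBlock M G) + 1) =
      Nat.card (aut P) * (Nat.card (aut P) + 1) := by
    rw [mul_add, mul_one]
    omega
  exact Nat.succ_injective (Nat.eq_of_mul_eq_mul_left hA.pos this)

end Basic

/-- Strong induction. -/
theorem main (hcl : SolvCentClass.{u}) {M : Ideal AlgInt} [M.IsPrime] [Fact (Nat.Prime 2)]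
    (hM : Cfsg.IsPModular 2 M) (n : ℕ) : ∀ (G : Type u) [Group G] [Fintype G], Nat.card G = n →
      ∀ P : Sylow 2 G, IsMulCommutative (P : Subgroup G) → (Nat.card (aut P)).Prime →
        Invariants M P := by
  induction n using Nat.strong_induction_on with
  | _ n ih =>
  intro G _ _ hn P hab hA
  have hquot : ∀ (H : Subgroup G) [H.Normal], H ≠ ⊥ → Nat.card (G ⧸ H) < n := by
    intro H _ hH
    rw [← hn, Subgroup.card_eq_card_quotient_mul_card_subgroup H]
    exact lt_mul_of_one_lt_right Nat.card_pos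
      (lt_of_le_of_ne Nat.card_pos fun e => hH (Subgroup.eq_bot_of_card_eq H e.symm))
  by_cases hO : Cfsg.oddCore G = ⊥
  swap
  · -- odd core
    set H := Cfsg.oddCore G with hH
    have hodd : ¬ 2 ∣ Nat.card H := by
      have := Nat.odd_iff.1 (CfsgLib.ExtremelyClosed.odd_card_oddCore' G)
      rw [← hH] at this
      omega
    haveI : H.Normal := by rw [hH]; infer_instance
    haveI := Fintype.ofFinite (G ⧸ H)
    obtain ⟨Q, hQab, hQA, hQcard, hQfix⟩ :=
      exists_quotient_data P hab H (fix_of_odd P H hodd)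
    rw [inf_eq_bot_of_odd P H hodd, Subgroup.card_bot, mul_one] at hQcard hQfix
    obtain ⟨hl, hk⟩ := ih _ (hquot H hO) (G ⧸ H) rfl Q hQab (hQA ▸ hA)
    obtain ⟨el, ek⟩ := invariants_quotient (p := 2) H hM hodd
    rw [hQA] at hl hk
    refine ⟨el.trans hl, fun hns => ?_⟩
    haveI : Group.IsSolvable H :=
      Cfsg.Agent.S0205.result (CfsgLib.ExtremelyClosed.odd_card_oddCore' G)
    obtain ⟨h1, h2⟩ := hk fun hs => hns
      (Group.isSolvable_of_ker_le_range H.subtype (QuotientGroup.mk' H) (by simp))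
    rw [hQfix, hQcard] at h2
    exact ⟨ek.trans (h1.trans hQcard), h2⟩
  have hOdd : ∀ N : Subgroup G, N.Normal → Odd (Nat.card N) → N = ⊥ := fun N hn ho =>
    le_bot_iff.1 (hO ▸ CfsgLib.ExtremelyClosed.le_oddCore_of_odd hn ho)
  obtain ⟨F, V, a, ha, -, hF, hfixa⟩ := exists_fixed P hab hA
  obtain rfl := fixed_eq_fixSub ha hF hfixa
  by_cases hbot : fixSub P = ⊥
  · refine invariants_semireg hcl hM hab hA hbot hO fun f hf w hw hfw =>
      hF.free f hf w (fun hm => hw (Subtype.ext ?_)) hfw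
    rw [hbot] at hm
    exact Subgroup.mem_bot.1 hm
  -- a central involution in the fixed subgroup
  obtain ⟨z, hzF, hzo⟩ : ∃ z ∈ fixSub P, orderOf z = 2 := by
    obtain ⟨k, hk⟩ := (P.2.to_le hF.leF).exists_card_eq
    rcases k with _ | k
    · exact absurd (Subgroup.eq_bot_of_card_eq _ (by rw [hk, pow_zero])) hbot
    · obtain ⟨⟨z, hz⟩, hzo⟩ := exists_prime_orderOf_dvd_card' (G := fixSub P) 2
        (hk ▸ dvd_pow_self 2 k.succ_ne_zero)
      exact ⟨z, hz, by rwa [Subgroup.orderOf_mk] at hzo⟩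
  have hz2 : z * z = 1 := by rw [← sq]; exact orderOf_dvd_iff_pow_eq_one.1 hzo.dvd
  have hNfix : ∀ u ∈ fixSub P, ∀ m ∈ Subgroup.normalizer ((P : Subgroup G) : Set G),
      m * u * m⁻¹ = u := fun u hu m hm =>
    mul_inv_eq_iff_eq_mul.2 (Subgroup.mem_centralizer_iff.1 hu.2 m hm)
  have hzc : z ∈ Subgroup.center G := by
    obtain ⟨N, hN, hodd, hc⟩ := CfsgLib.ZStar.exists_oddNormal_of_sylow P hzo (hF.leF hzF)
      fun g hg => by
        obtain ⟨f, hf, e⟩ := exists_aut_of_isConj hab (y := ⟨z, hF.leF hzF⟩) (y' := ⟨_, hg⟩)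
          (isConj_iff.2 ⟨g, rfl⟩)
        rw [hF.fix f hf _ hzF] at e
        exact (congrArg Subtype.val e).symm
    rw [hOdd N hN hodd] at hc
    refine Subgroup.mem_center_iff.2 fun g => ?_
    have h := Subgroup.mem_bot.1 (hc g)
    rw [mul_inv_eq_one, mul_inv_eq_iff_eq_mul] at h
    exact h.symm
  set Z := Subgroup.zpowers z with hZ
  haveI hZn : Z.Normal := ⟨fun x hx g => by
    rw [Subgroup.mem_center_iff.1 (Subgroup.zpowers_le.2 hzc hx) g, mul_inv_cancel_right]
    exact hx⟩
  have hZcard : Nat.card Z = 2 := by rw [Nat.card_zpowers, hzo]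
  haveI := Fintype.ofFinite (G ⧸ Z)
  obtain ⟨Q, hQab, hQA, hQcard, hQfix⟩ :=
    exists_quotient_data P hab Z (fix_of_fixed_involution P hab hz2 (hNfix z hzF))
  rw [show (P : Subgroup G) ⊓ Z = Z from inf_eq_right.2 (Subgroup.zpowers_le.2 (hF.leF hzF)),
    hZcard] at hQcard hQfix
  have hZne : Z ≠ ⊥ := fun e => by
    rw [e, Subgroup.card_bot] at hZcard
    omega
  obtain ⟨hl', hk'⟩ := ih _ (hquot Z hZne) (G ⧸ Z) rfl Q hQab (hQA ▸ hA)
  rw [hQA] at hl' hk'
  have hl : Cfsg.blockRank 2 (Cfsg.principalBlock M G) = Nat.card (aut P) := by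
    refine (Cfsg.Agent.S4571.result 2 M hM Z (IsPGroup.of_card (n := 1) (by rw [hZcard, pow_one]))
      (eq_top_iff.2 fun g _ => Subgroup.mem_sup_right (Subgroup.mem_centralizer_iff.2
        fun x hx => (Subgroup.mem_center_iff.1 (Subgroup.zpowers_le.2 hzc hx) g).symm))).trans hl'
  refine ⟨hl, fun hns => ?_⟩
  haveI : Group.IsSolvable Z := Group.isSolvable_of_comm fun a b => Subtype.ext
    (Subgroup.mem_center_iff.1 (Subgroup.zpowers_le.2 hzc b.2) a)
  obtain ⟨-, hcard'⟩ := hk' fun hs => hns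
    (Group.isSolvable_of_ker_le_range Z.subtype (QuotientGroup.mk' Z) (by simp))
  have hcard : Nat.card (fixSub P) * (Nat.card (aut P) + 1) = Nat.card (P : Subgroup G) := by
    rw [← hQfix, ← hQcard, ← hcard']
    ring
  refine ⟨?_, hcard⟩
  -- the ranks at the fixed elements
  have hr : ∀ u ∈ fixSub P, u ≠ 1 →
      Cfsg.blockRank 2 (Cfsg.principalBlock M (Subgroup.centralizer ({u} : Set G))) =
        Nat.card (aut P) := by
    intro u hu _
    set C := Subgroup.centralizer ({u} : Set G) with hC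
    haveI := Fintype.ofFinite C
    by_cases htop : C = ⊤
    · rw [blockRank_mulEquiv hM ((MulEquiv.subgroupCongr htop).trans Subgroup.topEquiv), hl]
    have hlt : Nat.card C < n := hn ▸ lt_of_le_of_ne (Subgroup.card_le_card_group C)
      fun e => htop (Subgroup.eq_top_of_card_eq C e)
    have hPC : (P : Subgroup G) ≤ C := RankOneInvolution.le_centralizer hab (hF.leF hu)
    have hNC : Subgroup.normalizer ((P : Subgroup G) : Set G) ≤ C := fun m hm =>
      Subgroup.mem_centralizer_singleton_iff.2 (mul_inv_eq_iff_eq_mul.1 (hNfix u hu m hm))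
    have hA' := card_aut_subtype hPC hNC
    have hC'ab : IsMulCommutative ((P.subtype hPC : Sylow 2 C) : Subgroup C) :=
      ⟨⟨fun a b => Subtype.ext (Subtype.ext (mul_comm_mem hab
        (show ((a : C) : G) ∈ (P : Subgroup G) from a.2)
        (show ((b : C) : G) ∈ (P : Subgroup G) from b.2)))⟩⟩
    exact (ih _ hlt C rfl _ hC'ab (hA' ▸ hA)).1.trans hA'
  have hcount := count hM hab (fixSub P) hF.leF hF.fix hF.free (Nat.card (aut P)) hr
  rw [hl] at hcount
  obtain ⟨j, hj⟩ : ∃ j, Nat.card (fixSub P) = j + 1 :=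
    Nat.exists_eq_succ_of_ne_zero Nat.card_pos.ne'
  rw [← hcard, hj, Nat.add_sub_cancel] at hcount
  rw [← hcard, hj]
  refine Nat.eq_of_mul_eq_mul_left hA.pos ?_
  rw [hcount, mul_add (j + 1), mul_one, Nat.add_sub_cancel]
  ring

end CfsgLib.PrimeInertia
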