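import Cfsg.Agent.PrimeInertia.Main

/-!
# The statement on principal blocks, given the classification by solvable involution centralizers
-/

set_option autoImplicit false
set_option linter.style.haveILetI false

namespace CfsgLib.PrimeInertia

open Cfsg

universe u

/-- The invariants of the principal block for a prime inertial index. -/
theorem invariants_of_class (hcl : SolvCentClass.{u}) {G : Type u} [Group G] [Finite G]
    (M : Ideal AlgInt) (hM : Cfsg.IsPModular 2 M) (P : Sylow 2 G) (hab : IsMulCommutative P)
    (he : ((Subgroup.centralizer ((P : Subgroup G) : Set G)).relIndex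
      (Subgroup.normalizer ((P : Subgroup G) : Set G))).Prime) :
    Cfsg.blockRank 2 (Cfsg.principalBlock M G) =
        (Subgroup.centralizer ((P : Subgroup G) : Set G)).relIndex
          (Subgroup.normalizer ((P : Subgroup G) : Set G)) ∧
      (¬ Group.IsSolvable G → Nat.card (Cfsg.principalBlock M G) = Nat.card P) := by
  cases nonempty_fintype G
  haveI := CfsgLib.Blocks.IsPModular.isPrime hM
  haveI : Fact (Nat.Prime 2) := ⟨Nat.prime_two⟩
  obtain ⟨h1, h2⟩ := main hcl hM (Nat.card G) G rfl P hab
    ((CfsgLib.BlocksFrobenius.card_aut P).symm ▸ he)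
  exact ⟨h1.trans (CfsgLib.BlocksFrobenius.card_aut P), fun h => (h2 h).1⟩

end CfsgLib.PrimeInertia
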